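import Mathlib
import Cfsg.Prelude.Def_LieExceptional
import Cfsg.Agent.Lib.Invol.BaerSuzuki
import Cfsg.Agent.Lib.CN.Final

/-!
A finite non-abelian simple group has no group of commutation-preserving permutations, containing the
inner ones, which is primitive on each of its orbits.
-/

set_option autoImplicit false

namespace CfsgLib.ExtremePrim

open MulAction

universe u v

section Twisted

variable {T : Type u} [Group T] [IsSimpleGroup T]

theorem center_eq_bot_of_not_comm (hT : ¬ IsMulCommutative T) : Subgroup.center T = ⊥ :=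
  ((inferInstance : (Subgroup.center T).Normal).eq_bot_or_eq_top).resolve_right fun h =>
    hT ⟨⟨fun a b => (Subgroup.mem_center_iff.1 (h ▸ Subgroup.mem_top b) a)⟩⟩

theorem false_of_twisted [Finite T] (hT : ¬ IsMulCommutative T) (H : Type v) [Group H] [MulAction H T]
    (hpow : ∀ (h : H) (x : T) (j : ℕ), h • (x ^ j) = (h • x) ^ j)
    (hcomm : ∀ (h : H) (x y : T), x * y = y * x → (h • x) * (h • y) = (h • y) * (h • x))
    (hinner : ∀ u : T, ∃ h : H, ∀ t : T, h • t = u * t * u⁻¹)
    (hprim : ∀ x : T, IsPreprimitive H (orbit H x)) : False := by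
  classical
  choose c hc using hinner
  have hcen := center_eq_bot_of_not_comm hT
  set C : T → Subgroup T := fun x => Subgroup.centralizer ({x} : Set T) with hC
  have memC : ∀ x u, u ∈ C x ↔ u * x = x * u := fun x u => Subgroup.mem_centralizer_singleton_iff
  have memM : ∀ x u, u ∈ C x ↔ c u ∈ stabilizer H x := fun x u => by
    rw [memC, mem_stabilizer_iff, hc, mul_inv_eq_iff_eq_mul]
  have notTop : ∀ x : T, x ≠ 1 → stabilizer H x ≠ ⊤ := fun x hx h => hx (by
    have hxc : x ∈ Subgroup.center T := Subgroup.mem_center_iff.2 fun u =>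
      (memC x u).1 ((memM x u).2 (h ▸ Subgroup.mem_top _))
    rwa [hcen, Subgroup.mem_bot] at hxc)
  have coatom : ∀ x : T, x ≠ 1 → IsCoatom (stabilizer H x) := by
    intro x hx
    haveI := hprim x
    haveI : Nontrivial (orbit H x) := by
      obtain ⟨h, hh⟩ : ∃ h : H, h • x ≠ x := by
        by_contra h'
        push Not at h'
        exact notTop x hx (eq_top_iff.2 fun h _ => mem_stabilizer_iff.2 (h' h))
      exact ⟨⟨⟨h • x, mem_orbit x h⟩, ⟨x, mem_orbit_self x⟩, fun e => hh (congrArg Subtype.val e)⟩⟩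
    have h1 := IsPreprimitive.isCoatom_stabilizer_of_isPreprimitive H (⟨x, mem_orbit_self x⟩ : orbit H x)
    have h2 : stabilizer H (⟨x, mem_orbit_self x⟩ : orbit H x) = stabilizer H x := by
      ext h
      simp [mem_stabilizer_iff, Subtype.ext_iff]
    rwa [h2] at h1
  -- centralizers of powers
  have hCpow : ∀ (x : T) (j : ℕ), x ^ j ≠ 1 → C (x ^ j) = C x := by
    intro x j hj
    have hx : x ≠ 1 := fun e => hj (by rw [e, one_pow])
    have hle : stabilizer H x ≤ stabilizer H (x ^ j) := fun h hh => by
      rw [mem_stabilizer_iff] at hh ⊢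
      rw [hpow, hh]
    have heq : stabilizer H (x ^ j) = stabilizer H x :=
      ((coatom x hx).le_iff.1 hle).resolve_left (notTop _ hj)
    ext u
    rw [memM, memM, heq]
  have hCprime : ∀ x : T, x ≠ 1 → ∃ j, (orderOf (x ^ j)).Prime ∧ C (x ^ j) = C x := by
    intro x hx
    obtain ⟨p, hp, hd⟩ := Nat.exists_prime_and_dvd (fun h => hx (orderOf_eq_one_iff.1 h))
    refine ⟨orderOf x / p, ?_, hCpow _ _ ?_⟩
    · rw [orderOf_pow_orderOf_div (orderOf_pos x).ne' hd]; exact hp
    · intro e
      have := orderOf_pow_orderOf_div (orderOf_pos x).ne' hd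
      rw [e, orderOf_one] at this
      exact hp.one_lt.ne this
  have hcop : ∀ x y : T, x ≠ 1 → y ≠ 1 → x * y = y * x → (orderOf x).Coprime (orderOf y) → C x = C y := by
    intro x y hx hy hxy hco
    have hz : ∀ a b : T, a ≠ 1 → a * b = b * a → (orderOf a).Coprime (orderOf b) →
        C (a * b) = C a := by
      intro a b ha hab hcb
      obtain ⟨j, hj0, hj1⟩ : ∃ j : ℕ, b ^ j = 1 ∧ a ^ j = a := by
        obtain ⟨j, h1, h2⟩ := Nat.chineseRemainder hcb.symm 0 1
        refine ⟨j, orderOf_dvd_iff_pow_eq_one.1 (Nat.modEq_zero_iff_dvd.1 h1), ?_⟩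
        exact (pow_eq_pow_iff_modEq.2 h2).trans (pow_one a)
      have h : (a * b) ^ j = a := by rw [Commute.mul_pow hab, hj0, hj1, mul_one]
      conv_rhs => rw [← h]
      exact (hCpow _ j (by rw [h]; exact ha)).symm
    rw [← hz x y hx hxy hco, hxy, hz y x hy hxy.symm hco.symm]
  -- centralizers are nilpotent
  have hCN : Cfsg.IsCNGroup T := by
    intro g hg
    show Group.IsNilpotent ↥(C g)
    obtain ⟨j, hp, hj⟩ := hCprime g hg
    rw [← hj]
    set x := g ^ j
    set p := orderOf x
    haveI : Fact p.Prime := ⟨hp⟩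
    have hx : x ≠ 1 := fun e => hp.one_lt.ne (by simp [p, e])
    by_cases hP : IsPGroup p ↥(C x)
    · exact hP.isNilpotent
    obtain ⟨y, hyC, q, hq, hyq, hqp⟩ : ∃ y ∈ C x, ∃ q : ℕ, q.Prime ∧ orderOf y = q ∧ q ≠ p := by
      by_contra hcon
      push Not at hcon
      apply hP
      apply IsPGroup.of_card (n := (Nat.card ↥(C x)).primeFactorsList.length)
      apply Nat.eq_prime_pow_of_unique_prime_dvd Nat.card_pos.ne'
      intro q hq hqd
      haveI : Fact q.Prime := ⟨hq⟩
      obtain ⟨y, hy⟩ := exists_prime_orderOf_dvd_card' q hqd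
      exact hcon y y.2 q hq ((Subgroup.orderOf_coe y).trans hy)
    have hy1 : y ≠ 1 := fun e => hq.one_lt.ne (by rw [← hyq, e, orderOf_one])
    have hxy : C x = C y := hcop x y hx hy1 ((memC x y).1 hyC).symm
      (by rw [hyq]; exact (Nat.coprime_primes hp hq).2 hqp.symm)
    have hab : IsMulCommutative ↥(C x) := by
      refine ⟨⟨fun a b => Subtype.ext ?_⟩⟩
      show (a : T) * b = b * a
      by_cases ha : (a : T) = 1
      · rw [ha, one_mul, mul_one]
      obtain ⟨i, hr, hi⟩ := hCprime _ ha
      have hax : x * (a : T) ^ i = (a : T) ^ i * x :=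
        ((Commute.pow_left (show Commute (a : T) x from (memC x a).1 a.2) i)).eq.symm
      have hay : y * (a : T) ^ i = (a : T) ^ i * y :=
        ((Commute.pow_left (show Commute (a : T) y from (memC y a).1 (hxy ▸ a.2)) i)).eq.symm
      have hai : (a : T) ^ i ≠ 1 := fun e => hr.one_lt.ne (by rw [e, orderOf_one])
      have : C (a : T) = C x := by
        rw [← hi]
        by_cases hrp : orderOf ((a : T) ^ i) = p
        · exact (hcop _ _ hai hy1 hay.symm
            (by rw [hrp, hyq]; exact (Nat.coprime_primes hp hq).2 hqp.symm)).trans hxy.symm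
        · exact hcop _ _ hai hx hax.symm ((Nat.coprime_primes hr hp).2 hrp)
      exact ((memC _ _).1 (this.symm ▸ b.2)).symm
    open scoped IsMulCommutative in exact inferInstance
  rcases Nat.even_or_odd (Nat.card T) with heven | hodd
  · haveI : Fact (Nat.Prime 2) := ⟨Nat.prime_two⟩
    obtain ⟨t, ht⟩ := exists_prime_orderOf_dvd_card' (G := T) 2 heven.two_dvd
    obtain ⟨x, hx, hxodd, hinv⟩ := CfsgLib.Invol.exists_odd_inverted_of_notMem_normal_two ht (fun N hN hNp htN => by
      rcases hN.eq_bot_or_eq_top with h | h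
      · rw [h, Subgroup.mem_bot] at htN
        simp [htN] at ht
      · rw [h] at hNp
        haveI : Group.IsNilpotent T := by
          have := (hNp.of_equiv Subgroup.topEquiv).isNilpotent
          exact this
        exact Group.IsNilpotent.center_ne_bot _ hcen)
    -- `t` normalises the self-normalising centralizer of `x`
    have hiff : ∀ w : T, w ∈ C x ↔ t * w * t⁻¹ ∈ C x := by
      intro w
      rw [memC, memC]
      have : t * (w * x⁻¹) * t⁻¹ = t * w * t⁻¹ * x ∧ t * (x⁻¹ * w) * t⁻¹ = x * (t * w * t⁻¹) := by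
        have hx' : t * x⁻¹ * t⁻¹ = x := by rw [show t * x⁻¹ * t⁻¹ = (t * x * t⁻¹)⁻¹ by group, hinv, inv_inv]
        constructor
        · conv_rhs => rw [← hx']
          group
        · conv_rhs => rw [← hx']
          group
      constructor
      · intro h
        rw [← this.1, ← this.2, (Commute.inv_right (show Commute w x from h)).eq]
      · intro h
        rw [← this.1, ← this.2] at h
        have h' : Commute w x⁻¹ := mul_left_cancel (mul_right_cancel h)
        simpa using h'.inv_right.eq
    let K : Subgroup H :=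
      { carrier := {h | ∀ w : T, w ∈ C x ↔ h • w ∈ C x}
        one_mem' := fun w => by rw [one_smul]
        mul_mem' := fun {a b} ha hb w => by rw [mul_smul, ← ha, ← hb]
        inv_mem' := fun {a} ha w => by rw [ha (a⁻¹ • w), smul_inv_smul] }
    have hMK : stabilizer H x ≤ K := by
      have key : ∀ h ∈ stabilizer H x, ∀ w ∈ C x, h • w ∈ C x := fun h hh w hw => by
        rw [memC] at hw ⊢
        have := hcomm h w x hw
        rwa [mem_stabilizer_iff.1 hh] at this
      intro h hh w
      exact ⟨key h hh w, fun hw => by simpa using key h⁻¹ (inv_mem hh) _ hw⟩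
    have hK : K ≠ ⊤ := by
      intro hK
      haveI hn : (C x).Normal := ⟨fun w hw u => by
        have h := ((hK ▸ Subgroup.mem_top (c u) : c u ∈ K) w).1 hw
        rwa [hc] at h⟩
      rcases hn.eq_bot_or_eq_top with h | h
      · exact hx (Subgroup.mem_bot.1 (h ▸ ((memC x x).2 rfl)))
      · refine notTop x hx (top_le_iff.1 (hK ▸ ?_))
        exact absurd (show x ∈ Subgroup.center T from Subgroup.mem_center_iff.2 fun u =>
          (memC x u).1 (h ▸ Subgroup.mem_top u)) (by rw [hcen, Subgroup.mem_bot]; exact hx)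
    have htK : c t ∈ K := fun w => by rw [hc]; exact hiff w
    have hKM : K = stabilizer H x := ((coatom x hx).le_iff.1 hMK).resolve_left hK
    rw [hKM, ← memM, memC] at htK
    have hxx : x = x⁻¹ := by rw [← hinv, htK, mul_inv_cancel_right]
    have h2 : orderOf x ∣ 2 := orderOf_dvd_of_pow_eq_one (by
      rw [pow_two]; nth_rewrite 2 [hxx]; exact mul_inv_cancel x)
    rcases (Nat.dvd_prime Nat.prime_two).1 h2 with h | h
    · exact hx (orderOf_eq_one_iff.1 h)
    · rw [h] at hxodd; exact (Nat.not_odd_iff_even.2 even_two) hxodd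
  · have hsol := CfsgLib.CN.isSolvable_of_cn hodd hCN
    exact hT ⟨⟨IsSimpleGroup.comm_iff_isSolvable.2 hsol⟩⟩

end Twisted

end CfsgLib.ExtremePrim
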