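import Mathlib
import Cfsg.Agent.Lib.Perm.Basic
import Cfsg.Agent.Lib.ExtremePrim.Twisted

/-!
An extremely primitive group is of affine type or almost simple.
-/

set_option autoImplicit false

namespace CfsgLib.ExtremePrim

open MulAction
open scoped Pointwise

universe u v

variable {G : Type u} [Group G] {Ω : Type v} [MulAction G Ω]

/-- The points reached from `a` by a subgroup. -/
def pts (a : Ω) (U : Subgroup G) : Set Ω := {w | ∃ x ∈ U, x • a = w}

theorem smul_smul_conj {a : Ω} {h : G} (hh : h • a = a) (x : G) : h • x • a = (h * x * h⁻¹) • a :=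
  CfsgLib.Perm.smul_smul_of_fix hh

/-- A non-abelian simple subgroup normalised by a transitive normal subgroup which its conjugates
generate. -/
structure Setup (α : Ω) (N U : Subgroup G) : Prop where
  normal : N.Normal
  trans : ∀ w : Ω, ∃ n ∈ N, n • α = w
  le : U ≤ N
  normed : ∀ n ∈ N, ∀ x ∈ U, n * x * n⁻¹ ∈ U
  simple : ∀ K : Subgroup G, K ≤ U → (∀ x ∈ U, ∀ y ∈ K, x * y * x⁻¹ ∈ K) → K = ⊥ ∨ K = U
  noCentral : ∀ x ∈ U, (∀ y ∈ U, Commute x y) → x = 1
  ne_bot : U ≠ ⊥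
  conj : ∀ g : G, (∀ x : G, x ∈ U ↔ g * x * g⁻¹ ∈ U) ∨ ∀ x ∈ U, ∀ y ∈ U, Commute (g * x * g⁻¹) y
  gen : ∀ K : Subgroup G, (∀ g : G, ∀ x ∈ U, g * x * g⁻¹ ∈ K) → N ≤ K

variable {α : Ω} {N U : Subgroup G}

theorem Setup.proj (S : Setup α N U) : ∀ n ∈ N, ∃ x ∈ U, ∀ y ∈ U, Commute (x⁻¹ * n) y := by
  let P : Subgroup G :=
    { carrier := {n | ∃ x ∈ U, ∀ y ∈ U, Commute (x⁻¹ * n) y}
      one_mem' := ⟨1, one_mem _, fun y _ => by simp⟩
      mul_mem' := by
        rintro a b ⟨x, hx, hxc⟩ ⟨x', hx', hxc'⟩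
        refine ⟨x * x', mul_mem hx hx', fun y hy => ?_⟩
        have e : x⁻¹ * a * x'⁻¹ = x'⁻¹ * (x⁻¹ * a) := (hxc _ (inv_mem hx')).eq
        rw [show (x * x')⁻¹ * (a * b) = x'⁻¹ * (x⁻¹ * a) * b by group, ← e,
          show x⁻¹ * a * x'⁻¹ * b = x⁻¹ * a * (x'⁻¹ * b) by group]
        exact (hxc y hy).mul_left (hxc' y hy)
      inv_mem' := by
        rintro a ⟨x, hx, hxc⟩
        refine ⟨x⁻¹, inv_mem hx, fun y hy => ?_⟩
        have e : x⁻¹ * a * x = x * (x⁻¹ * a) := (hxc _ hx).eq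
        have e2 : (x⁻¹)⁻¹ * a⁻¹ = (x⁻¹ * a)⁻¹ := by
          rw [inv_inv, eq_inv_iff_mul_eq_one, mul_assoc, mul_eq_one_iff_eq_inv, mul_inv_rev, inv_inv]
          rw [show x⁻¹ * a = x⁻¹ * a * x * x⁻¹ by group, e]
          group
        rw [e2]
        exact (hxc y hy).inv_left }
  refine fun n hn => S.gen P (fun g x hx => ?_) hn
  rcases S.conj g with h | h
  · exact ⟨g * x * g⁻¹, (h x).1 hx, fun y _ => by rw [inv_mul_cancel]; exact Commute.one_left y⟩
  · exact ⟨1, one_mem _, fun y hy => by rw [inv_one, one_mul]; exact h x hx y hy⟩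

/-- The projection of the point stabiliser of `N` to `U`. -/
def projStab (α : Ω) (N U : Subgroup G) : Subgroup G :=
  Subgroup.closure {x | x ∈ U ∧ ∃ n ∈ N, n • α = α ∧ ∀ y ∈ U, Commute (x⁻¹ * n) y}

theorem projStab_le : projStab α N U ≤ U :=
  (Subgroup.closure_le _).2 fun _ hx => hx.1

theorem mem_projStab {x : G} (hx : x ∈ projStab α N U) :
    x ∈ U ∧ ∃ n ∈ N, n • α = α ∧ ∀ y ∈ U, Commute (x⁻¹ * n) y := by
  induction hx using Subgroup.closure_induction with
  | mem x hx => exact hx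
  | one => exact ⟨one_mem _, 1, one_mem _, one_smul _ _, fun y _ => by simp⟩
  | mul a b _ _ iha ihb =>
    obtain ⟨ha, n, hn, hna, hc⟩ := iha
    obtain ⟨hb, m, hm, hma, hd⟩ := ihb
    refine ⟨mul_mem ha hb, n * m, mul_mem hn hm, by rw [mul_smul, hma, hna], fun y hy => ?_⟩
    have e : a⁻¹ * n * b⁻¹ = b⁻¹ * (a⁻¹ * n) := (hc _ (inv_mem hb)).eq
    rw [show (a * b)⁻¹ * (n * m) = b⁻¹ * (a⁻¹ * n) * m by group, ← e,
      show a⁻¹ * n * b⁻¹ * m = a⁻¹ * n * (b⁻¹ * m) by group]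
    exact (hc y hy).mul_left (hd y hy)
  | inv a _ iha =>
    obtain ⟨ha, n, hn, hna, hc⟩ := iha
    refine ⟨inv_mem ha, n⁻¹, inv_mem hn, by rw [inv_smul_eq_iff, hna], fun y hy => ?_⟩
    have e : a⁻¹ * n * a = a * (a⁻¹ * n) := (hc _ ha).eq
    have e2 : (a⁻¹)⁻¹ * n⁻¹ = (a⁻¹ * n)⁻¹ := by
      rw [inv_inv, eq_inv_iff_mul_eq_one, mul_assoc, mul_eq_one_iff_eq_inv, mul_inv_rev, inv_inv]
      rw [show a⁻¹ * n = a⁻¹ * n * a * a⁻¹ by group, e]
      group
    rw [e2]
    exact (hc y hy).inv_left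

theorem mem_projStab_of {x n : G} (hx : x ∈ U) (hn : n ∈ N) (hna : n • α = α)
    (hc : ∀ y ∈ U, Commute (x⁻¹ * n) y) : x ∈ projStab α N U :=
  Subgroup.subset_closure ⟨hx, n, hn, hna, hc⟩

/-- When the projection is everything, a subgroup of `U` invariant under the stabiliser is trivial. -/
theorem Setup.eq_of_invariant (S : Setup α N U) (hR : U ≤ projStab α N U) (K : Subgroup G) (hK : K ≤ U)
    (hinv : ∀ n ∈ N, n • α = α → ∀ y ∈ K, n * y * n⁻¹ ∈ K) : K = ⊥ ∨ K = U := by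
  refine S.simple K hK fun x hx y hy => ?_
  obtain ⟨-, n, hn, hna, hc⟩ := mem_projStab (hR hx)
  have e : x⁻¹ * n * y = y * (x⁻¹ * n) := (hc y (hK hy)).eq
  have : x * y * x⁻¹ = n * y * n⁻¹ := by
    rw [show n * y = x * (x⁻¹ * n * y) by group, e]; group
  rw [this]
  exact hinv n hn hna y hy

theorem Setup.conj_by_stab (S : Setup α N U) (g : G) :
    ∃ h : G, h • α = α ∧ ∀ x ∈ U, g * x * g⁻¹ ∈ U.map (MulAut.conj h).toMonoidHom := by
  obtain ⟨n, hn, hna⟩ := S.trans (g • α)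
  refine ⟨n⁻¹ * g, by rw [mul_smul, ← hna, inv_smul_smul], fun x hx => ?_⟩
  refine ⟨g⁻¹ * n * g * x * (g⁻¹ * n * g)⁻¹, S.normed _ ?_ x hx, ?_⟩
  · simpa using S.normal.conj_mem n hn g⁻¹
  · simp only [MulEquiv.coe_toMonoidHom, MulAut.conj_apply]
    group

variable [Finite G]

theorem Setup.not_fixed (S : Setup α N U) (hne : ∃ w : Ω, w ≠ α) : ∃ x ∈ U, x • α ≠ α := by
  by_contra hcon
  push Not at hcon
  obtain ⟨w, hw⟩ := hne
  obtain ⟨n, hn, hna⟩ := S.trans w
  refine hw ?_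
  rw [← hna]
  refine mem_stabilizer_iff.1 (S.gen (stabilizer G α) (fun g x hx => ?_) hn)
  obtain ⟨h, hh, hmem⟩ := S.conj_by_stab g
  obtain ⟨y, hy, e⟩ := hmem x hx
  rw [← e]
  show (h * y * h⁻¹) • α = α
  rw [← smul_smul_conj hh, hcon y hy, hh]

/-- Either the projection is everything or it fixes the point. -/
theorem Setup.projStab_fix (S : Setup α N U) (hco : IsCoatom (stabilizer G α))
    (hR : ¬ U ≤ projStab α N U) : ∀ x ∈ projStab α N U, x • α = α := by
  classical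
  set R := projStab α N U
  have hinvR : ∀ h : G, h • α = α → (∀ x, x ∈ U ↔ h * x * h⁻¹ ∈ U) → ∀ r ∈ R, h * r * h⁻¹ ∈ R := by
    intro h hh hn r hr
    obtain ⟨hrU, n, hnN, hna, hc⟩ := mem_projStab hr
    refine mem_projStab_of ((hn r).1 hrU) (S.normal.conj_mem n hnN h)
      (by rw [← smul_smul_conj hh, hna, hh]) fun y hy => ?_
    have hy' : h⁻¹ * y * h ∈ U := (hn _).2 (by simpa [mul_assoc] using hy)
    have := (hc _ hy').map (MulAut.conj h)
    simp only [MulAut.conj_apply] at this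
    convert this using 1 <;> group
  let T : Subgroup G :=
    { carrier := {n | n ∈ N ∧ ∀ h : G, h • α = α → ∃ r ∈ R, ∀ y ∈ U, Commute (r⁻¹ * (h * n * h⁻¹)) y}
      one_mem' := ⟨one_mem _, fun h _ => ⟨1, one_mem _, fun y _ => by simp⟩⟩
      mul_mem' := by
        rintro a b ⟨haN, ha⟩ ⟨hbN, hb⟩
        refine ⟨mul_mem haN hbN, fun h hh => ?_⟩
        obtain ⟨r, hr, hrc⟩ := ha h hh
        obtain ⟨r', hr', hrc'⟩ := hb h hh
        refine ⟨r * r', mul_mem hr hr', fun y hy => ?_⟩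
        have e : r⁻¹ * (h * a * h⁻¹) * r'⁻¹ = r'⁻¹ * (r⁻¹ * (h * a * h⁻¹)) :=
          (hrc _ (inv_mem (projStab_le hr'))).eq
        rw [show (r * r')⁻¹ * (h * (a * b) * h⁻¹) = r'⁻¹ * (r⁻¹ * (h * a * h⁻¹)) * (h * b * h⁻¹) by group,
          ← e, show r⁻¹ * (h * a * h⁻¹) * r'⁻¹ * (h * b * h⁻¹) =
            r⁻¹ * (h * a * h⁻¹) * (r'⁻¹ * (h * b * h⁻¹)) by group]
        exact (hrc y hy).mul_left (hrc' y hy)
      inv_mem' := by
        rintro a ⟨haN, ha⟩
        refine ⟨inv_mem haN, fun h hh => ?_⟩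
        obtain ⟨r, hr, hrc⟩ := ha h hh
        refine ⟨r⁻¹, inv_mem hr, fun y hy => ?_⟩
        have e : r⁻¹ * (h * a * h⁻¹) * r = r * (r⁻¹ * (h * a * h⁻¹)) := (hrc _ (projStab_le hr)).eq
        have e2 : (r⁻¹)⁻¹ * (h * a⁻¹ * h⁻¹) = (r⁻¹ * (h * a * h⁻¹))⁻¹ := by
          rw [inv_inv, eq_inv_iff_mul_eq_one,
            show r⁻¹ * (h * a * h⁻¹) = r⁻¹ * (h * a * h⁻¹) * r * r⁻¹ by group, e]
          group
        rw [e2]
        exact (hrc y hy).inv_left }
  have hNH : ∀ n ∈ N, n • α = α → n ∈ T := fun n hn hna => ⟨hn, fun h hh => by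
    obtain ⟨x, hx, hc⟩ := S.proj _ (S.normal.conj_mem n hn h)
    exact ⟨x, mem_projStab_of hx (S.normal.conj_mem n hn h) (by rw [← smul_smul_conj hh, hna, hh]) hc, hc⟩⟩
  have hRT : R ≤ T := fun r hr => ⟨S.le (projStab_le hr), fun h hh => by
    rcases S.conj h with hn | hn
    · exact ⟨h * r * h⁻¹, hinvR h hh hn r hr, fun y _ => by rw [inv_mul_cancel]; exact Commute.one_left y⟩
    · exact ⟨1, one_mem _, fun y hy => by rw [inv_one, one_mul]; exact hn r (projStab_le hr) y hy⟩⟩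
  have hTinv : stabilizer G α ≤ Subgroup.normalizer (T : Set G) := by
    have key : ∀ h : G, h • α = α → ∀ n ∈ T, h * n * h⁻¹ ∈ T := fun h hh n hn =>
      ⟨S.normal.conj_mem n hn.1 h, fun k hk => by
        obtain ⟨r, hr, hrc⟩ := hn.2 (k * h) (by rw [mul_smul, hh, hk])
        exact ⟨r, hr, by simpa [mul_assoc] using hrc⟩⟩
    intro h hh
    rw [mem_stabilizer_iff] at hh
    rw [Subgroup.mem_normalizer_iff]
    refine fun n => ⟨key h hh n, fun hn => ?_⟩
    simpa [mul_assoc] using key h⁻¹ (inv_smul_eq_iff.2 hh.symm) _ hn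
  intro x hx
  by_contra hxa
  apply hR
  have htop : stabilizer G α ⊔ T = ⊤ := hco.2 _ (lt_of_le_of_ne le_sup_left fun e => hxa
    (mem_stabilizer_iff.1 (e.symm ▸ Subgroup.mem_sup_right (hRT hx))))
  have hUT : U ≤ T := by
    intro y hy
    have hmem : y ∈ ((stabilizer G α ⊔ T : Subgroup G) : Set G) := by rw [htop]; trivial
    rw [Subgroup.coe_mul_of_left_le_normalizer_right _ _ hTinv] at hmem
    obtain ⟨h, hh, t, ht, e⟩ := Set.mem_mul.1 hmem
    rw [← e]
    refine mul_mem (hNH h ?_ (mem_stabilizer_iff.1 hh)) ht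
    rw [show h = y * t⁻¹ by rw [← e]; group]
    exact mul_mem (S.le hy) (inv_mem ht.1)
  intro y hy
  obtain ⟨r, hr, hrc⟩ := (hUT hy).2 1 (one_smul _ _)
  simp only [one_mul, inv_one, mul_one] at hrc
  have := S.noCentral _ (mul_mem (inv_mem (projStab_le hr)) hy) hrc
  rw [inv_mul_eq_one] at this
  exact this ▸ hr

/-- Two translates of the reachable points are equal or meet only in the fixed point. -/
theorem Setup.dichotomy (S : Setup α N U) (hco : IsCoatom (stabilizer G α)) {k : G} (hk : k • α = α)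
    {w : Ω} (hwa : w ≠ α) (hw : w ∈ pts α U) (hkw : k • w ∈ pts α U) :
    ∀ z, z ∈ pts α U ↔ k • z ∈ pts α U := by
  rcases S.conj k with hn | hn
  · intro z
    refine ⟨?_, ?_⟩
    · rintro ⟨x, hx, rfl⟩; exact ⟨k * x * k⁻¹, (hn x).1 hx, (smul_smul_conj hk x).symm⟩
    · rintro ⟨x, hx, e⟩
      refine ⟨k⁻¹ * x * k, (hn _).2 (by simpa [mul_assoc] using hx), smul_left_cancel k ?_⟩
      rw [← e, smul_smul_conj hk]
      simp [mul_assoc]
  have main : ∀ k : G, k • α = α → (∀ x ∈ U, ∀ y ∈ U, Commute (k * x * k⁻¹) y) → ∀ w, w ≠ α →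
      w ∈ pts α U → k • w ∈ pts α U → ∀ z ∈ pts α U, ∃ v ∈ pts α U, k • v = z := by
    intro k hk hn w hwa hw hkw
    obtain ⟨b, hb, hbw⟩ := hw
    obtain ⟨a, ha, haw⟩ := hkw
    rw [← hbw, smul_smul_conj hk] at haw
    let K : Subgroup G :=
      { carrier := {t | t ∈ U ∧ ∃ s ∈ U, t • α = (k * s * k⁻¹) • α}
        one_mem' := ⟨one_mem _, 1, one_mem _, by simp⟩
        mul_mem' := by
          rintro t t' ⟨ht, s, hs, e⟩ ⟨ht', s', hs', e'⟩
          refine ⟨mul_mem ht ht', s' * s, mul_mem hs' hs, ?_⟩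
          rw [mul_smul, e', smul_smul, ← (hn s' hs' t ht).eq, mul_smul, e, smul_smul]
          group
        inv_mem' := by
          rintro t ⟨ht, s, hs, e⟩
          refine ⟨inv_mem ht, s⁻¹, inv_mem hs, ?_⟩
          have h2 : (t⁻¹ * (k * s * k⁻¹)) • α = α := by rw [mul_smul, ← e, inv_smul_smul]
          rw [← (hn s hs _ (inv_mem ht)).eq, mul_smul] at h2
          rw [eq_inv_smul_iff.2 h2]
          group }
    have haK : a ∈ K := ⟨ha, b, hb, haw⟩
    have haa : a • α ≠ α := by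
      rw [haw, ← smul_smul_conj hk]
      intro h
      refine hwa ?_
      rw [← hbw]
      exact smul_left_cancel k (h.trans hk.symm)
    by_cases hR : U ≤ projStab α N U
    · have hKU : K = U := by
        refine (S.eq_of_invariant hR K (fun t ht => ht.1) fun n hn' hna t ⟨ht, s, hs, e⟩ => ?_).resolve_left
          fun h => haa (by rw [h, Subgroup.mem_bot] at haK; rw [haK, one_smul])
        refine ⟨S.normed n hn' t ht, k⁻¹ * n * k * s * (k⁻¹ * n * k)⁻¹, S.normed _ ?_ s hs, ?_⟩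
        · simpa using S.normal.conj_mem n hn' k⁻¹
        · rw [← smul_smul_conj hna, e, smul_smul_conj hna]
          group
      rintro z ⟨x, hx, rfl⟩
      obtain ⟨-, s, hs, e⟩ := hKU.symm ▸ hx
      exact ⟨s • α, ⟨s, hs, rfl⟩, by rw [smul_smul_conj hk, e]⟩
    · refine absurd ?_ haa
      refine inv_smul_eq_iff.1 ?_ |>.symm
      refine S.projStab_fix hco hR _ (mem_projStab_of (inv_mem ha) (n := a⁻¹ * (k * b * k⁻¹))
        (mul_mem (inv_mem (S.le ha)) (S.normal.conj_mem b (S.le hb) k))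
        (by rw [mul_smul, ← haw, inv_smul_smul]) fun y hy => ?_)
      rw [show (a⁻¹)⁻¹ * (a⁻¹ * (k * b * k⁻¹)) = k * b * k⁻¹ by group]
      exact hn b hb y hy
  have hk' : k⁻¹ • α = α := inv_smul_eq_iff.2 hk.symm
  have hn' : ∀ x ∈ U, ∀ y ∈ U, Commute (k⁻¹ * x * k⁻¹⁻¹) y := by
    intro x hx y hy
    have := (hn y hy x hx).symm.map (MulAut.conj k⁻¹)
    simp only [MulAut.conj_apply] at this
    convert this using 1 <;> group
  intro z
  constructor
  · intro hz
    obtain ⟨v, hv, e⟩ := main k⁻¹ hk' hn' (k • w)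
      (fun h => hwa (smul_left_cancel k (h.trans hk.symm))) hkw (by rwa [inv_smul_smul]) z hz
    rwa [← e, smul_inv_smul]
  · intro hz
    obtain ⟨v, hv, e⟩ := main k hk hn w hwa hw hkw _ hz
    rwa [smul_left_cancel k e] at hv

/-- Extreme primitivity makes the reachable points invariant under the stabiliser. -/
theorem Setup.invariant (S : Setup α N U) (hco : IsCoatom (stabilizer G α))
    (hep : ∀ w : Ω, IsPreprimitive (stabilizer G α) (orbit (stabilizer G α) w))
    (hne : ∃ w : Ω, w ≠ α) : ∀ k : G, k • α = α → ∀ z ∈ pts α U, k • z ∈ pts α U := by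
  classical
  intro k hk z hz
  by_contra hkz
  obtain ⟨v, hv, hva⟩ := S.not_fixed hne
  -- a normalising element of the stabiliser moves a point
  obtain ⟨h₁, hh₁, hn₁, x, hx, hmove⟩ : ∃ h : G, h • α = α ∧ (∀ x, x ∈ U ↔ h * x * h⁻¹ ∈ U) ∧
      ∃ x ∈ U, h • x • α ≠ x • α := by
    by_contra hcon
    push Not at hcon
    have hnorm : ∀ n ∈ N, ∀ x, x ∈ U ↔ n * x * n⁻¹ ∈ U := fun n hn x =>
      ⟨S.normed n hn x, fun h => by simpa [mul_assoc] using S.normed n⁻¹ (inv_mem hn) _ h⟩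
    have hIH : U ⊓ stabilizer G α ≠ U := fun h => hva
      (mem_stabilizer_iff.1 ((inf_eq_left.1 h) hv))
    have hI : U ⊓ stabilizer G α = ⊥ := by
      refine (S.simple _ inf_le_left fun y hy r hr => ?_).resolve_right hIH
      obtain ⟨hr1, hr2⟩ := Subgroup.mem_inf.1 hr
      refine Subgroup.mem_inf.2 ⟨mul_mem (mul_mem hy hr1) (inv_mem hy), ?_⟩
      have h := hcon r hr2 (hnorm r (S.le hr1)) y⁻¹ (inv_mem hy)
      show (y * r * y⁻¹) • α = α
      rw [mul_smul, mul_smul, h, smul_inv_smul]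
    have hfix : ∀ h : G, h • α = α → (∀ x, x ∈ U ↔ h * x * h⁻¹ ∈ U) → ∀ x ∈ U, h * x * h⁻¹ = x := by
      intro h hh hn x hx
      have h2 := hcon h hh hn x hx
      rw [smul_smul_conj hh] at h2
      have h3 : x⁻¹ * (h * x * h⁻¹) ∈ U ⊓ stabilizer G α := Subgroup.mem_inf.2
        ⟨mul_mem (inv_mem hx) ((hn x).1 hx), by
          show (x⁻¹ * (h * x * h⁻¹)) • α = α
          rw [mul_smul, h2, inv_smul_smul]⟩
      rw [hI, Subgroup.mem_bot, inv_mul_eq_one] at h3
      exact h3.symm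
    have hR : ∀ x ∈ projStab α N U, x = 1 := by
      by_cases hR : U ≤ projStab α N U
      · intro x hx
        obtain ⟨hxU, n, hn, hna, hc⟩ := mem_projStab hx
        refine S.noCentral x hxU fun y hy => ?_
        have h1 : Commute n y := mul_inv_eq_iff_eq_mul.1 (hfix n hna (hnorm n hn) y hy)
        have h2 := h1.mul_left (hc y hy).inv_left
        rwa [show n * (x⁻¹ * n)⁻¹ = x by group] at h2
      · intro x hx
        rw [← Subgroup.mem_bot, ← hI]
        exact Subgroup.mem_inf.2 ⟨projStab_le hx, S.projStab_fix hco hR x hx⟩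
    obtain ⟨u₀, hu₀, hu₁⟩ := (Subgroup.bot_or_exists_ne_one U).resolve_left S.ne_bot
    haveI := Fintype.ofFinite G
    let A : Finset G := (Finset.univ.filter fun h : G => h • α = α).image fun h => h * u₀ * h⁻¹
    have memA : ∀ a, a ∈ A ↔ ∃ h : G, h • α = α ∧ h * u₀ * h⁻¹ = a := fun a => by simp [A]
    have hcomm : {x | x ∈ A.1}.Pairwise Commute := by
      intro a ha b hb hab
      obtain ⟨h, hh, rfl⟩ := (memA a).1 ha
      obtain ⟨h', hh', rfl⟩ := (memA b).1 hb
      have hj : (h⁻¹ * h') • α = α := by rw [mul_smul, hh', inv_smul_eq_iff, hh]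
      rcases S.conj (h⁻¹ * h') with hn | hn
      · exact absurd (by conv_lhs => rw [← hfix _ hj hn u₀ hu₀]
                         group) hab
      · have := (hn u₀ hu₀ u₀ hu₀).symm.map (MulAut.conj h)
        simp only [MulAut.conj_apply] at this
        show Commute (h * u₀ * h⁻¹) (h' * u₀ * h'⁻¹)
        convert this using 1
        group
    set d := A.1.noncommProd hcomm with hd
    have hdH : ∀ h : G, h • α = α → h * d * h⁻¹ = d := by
      intro h hh
      have hinj : Function.Injective fun a : G => h * a * h⁻¹ := fun a b e =>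
        mul_left_cancel (mul_right_cancel e)
      have himg : A.image (fun a => h * a * h⁻¹) = A := by
        refine Finset.eq_of_subset_of_card_le (fun b hb => ?_) ?_
        · obtain ⟨a, ha, rfl⟩ := Finset.mem_image.1 hb
          obtain ⟨g, hg, rfl⟩ := (memA a).1 ha
          exact (memA _).2 ⟨h * g, by rw [mul_smul, hg, hh], by group⟩
        · rw [Finset.card_image_of_injective _ hinj]
      have hmap := Multiset.map_noncommProd A.1 hcomm (MulAut.conj h)
      have hval : A.1.map (MulAut.conj h) = A.1 := by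
        conv_rhs => rw [← himg]
        rw [Finset.image_val_of_injOn hinj.injOn]
        rfl
      rw [hd, ← MulAut.conj_apply, hmap]
      congr 1
    have hdN : d ∈ N := Multiset.noncommProd_induction _ _ (· ∈ N) (fun _ _ => mul_mem) (one_mem _)
      fun a ha => by
        obtain ⟨g, -, rfl⟩ := (memA a).1 ha
        exact S.normal.conj_mem u₀ (S.le hu₀) g
    have hu₀A : u₀ ∈ A := (memA _).2 ⟨1, one_smul _ _, by simp⟩
    have hdU : ∀ y ∈ U, Commute (u₀⁻¹ * d) y := by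
      intro y hy
      rw [hd, ← Multiset.mul_noncommProd_erase A.1 hu₀A hcomm, inv_mul_cancel_left]
      refine (Multiset.noncommProd_commute _ _ y fun a ha => ?_).symm
      obtain ⟨hne, ha⟩ := A.nodup.mem_erase_iff.1 ha
      obtain ⟨g, hg, rfl⟩ := (memA a).1 ha
      rcases S.conj g with hn | hn
      · exact absurd (hfix g hg hn u₀ hu₀) hne
      · exact (hn u₀ hu₀ y hy).symm
    have hle : stabilizer G α ≤ Subgroup.centralizer {d} := fun h hh =>
      Subgroup.mem_centralizer_singleton_iff.2 (mul_inv_eq_iff_eq_mul.1 (hdH h hh))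
    by_cases htop : Subgroup.centralizer {d} = ⊤
    · refine hu₁ (S.noCentral u₀ hu₀ fun y hy => ?_)
      have h1 : Commute d y := (Subgroup.mem_centralizer_singleton_iff.1 (htop ▸ Subgroup.mem_top y)).symm
      have h2 := h1.mul_left (hdU y hy).inv_left
      rwa [show d * (u₀⁻¹ * d)⁻¹ = u₀ by group] at h2
    · have hdα : d • α = α := mem_stabilizer_iff.1
        (((hco.le_iff.1 hle).resolve_left htop) ▸ Subgroup.mem_centralizer_singleton_iff.2 rfl)
      exact hu₁ (hR u₀ (mem_projStab_of hu₀ hdN hdα hdU))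
  -- the translates of the reachable points are blocks
  have hxa : x • α ≠ α := fun e => hmove (by rw [e, hh₁])
  let P := orbit (stabilizer G α) (x • α)
  haveI := hep (x • α)
  let B : Set P := {w | (w : Ω) ∈ pts α U}
  have hD := fun {k : G} (hk : k • α = α) {w : Ω} (hwa : w ≠ α) => S.dichotomy hco hk (w := w) hwa
  have hPa : ∀ w : P, (w : Ω) ≠ α := by
    rintro ⟨w, g, rfl⟩ e
    exact hxa (smul_left_cancel (g : G) (e.trans g.2.symm))
  have hmem : ∀ (g : stabilizer G α) (w : P), w ∈ g • B ↔ (g : G)⁻¹ • (w : Ω) ∈ pts α U := by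
    intro g w
    rw [Set.mem_smul_set_iff_inv_smul_mem]
    rfl
  have hB : IsBlock (stabilizer G α) B := by
    rw [isBlock_iff_smul_eq_smul_of_nonempty]
    rintro g₁ g₂ ⟨w, hw₁, hw₂⟩
    rw [hmem] at hw₁ hw₂
    ext w'
    rw [hmem, hmem]
    have hk : ((g₂ : G)⁻¹ * g₁) • α = α := mem_stabilizer_iff.1 (g₂⁻¹ * g₁).2
    have h := hD hk (w := (g₁ : G)⁻¹ • (w : Ω))
      (fun e => hPa w ((inv_smul_eq_iff.1 e).trans (mem_stabilizer_iff.1 g₁.2))) hw₁
      (by rwa [mul_smul, smul_inv_smul]) ((g₁ : G)⁻¹ • (w' : Ω))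
    rwa [mul_smul, smul_inv_smul] at h
  rcases hB.subsingleton_or_eq_univ with h | h
  · refine hmove (congrArg Subtype.val (h (x := ⟨h₁ • x • α, ⟨⟨h₁, hh₁⟩, rfl⟩⟩)
      ⟨h₁ * x * h₁⁻¹, (hn₁ x).1 hx, (smul_smul_conj hh₁ x).symm⟩
      (y := ⟨x • α, mem_orbit_self _⟩) ⟨x, hx, rfl⟩))
  · refine hkz ?_
    have hk' : k • x • α ∈ pts α U := by
      have : (⟨k • x • α, ⟨⟨k, hk⟩, rfl⟩⟩ : P) ∈ B := h ▸ Set.mem_univ _
      exact this
    exact (hD hk hxa ⟨x, hx, rfl⟩ hk' z).1 hz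


/-- The simple subgroup as a simple group. -/
theorem Setup.isSimpleGroup {G : Type u} [Group G] {Ω : Type v} [MulAction G Ω] {α : Ω}
    {N U : Subgroup G} (S : Setup α N U) : IsSimpleGroup U ∧ ¬ IsMulCommutative U := by
  haveI : Nontrivial U := (Subgroup.nontrivial_iff_ne_bot U).2 S.ne_bot
  refine ⟨⟨fun L hL => ?_⟩, fun hab => S.ne_bot ((Subgroup.eq_bot_iff_forall U).2 fun x hx =>
    S.noCentral x hx fun y hy => congrArg Subtype.val (hab.is_comm.comm ⟨x, hx⟩ ⟨y, hy⟩))⟩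
  have hle : L.map U.subtype ≤ U := Subgroup.map_subtype_le L
  rcases S.simple _ hle (fun x hx y hy => by
      obtain ⟨l, hl, rfl⟩ := hy
      exact ⟨⟨x, hx⟩ * l * ⟨x, hx⟩⁻¹, hL.conj_mem l hl _, rfl⟩) with h | h
  · exact Or.inl ((Subgroup.map_eq_bot_iff_of_injective L U.subtype_injective).1 h)
  · refine Or.inr (eq_top_iff.2 fun x _ => ?_)
    have hx : (x : G) ∈ L.map U.subtype := h.symm ▸ x.2
    obtain ⟨l, hl, e⟩ := hx
    exact (Subtype.ext e : l = x) ▸ hl

/-- The almost simple alternative. -/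
theorem Setup.almostSimple [FaithfulSMul G Ω] [IsPreprimitive G Ω] (S : Setup α N U)
    (hco : IsCoatom (stabilizer G α))
    (hep : ∀ w : Ω, IsPreprimitive (stabilizer G α) (orbit (stabilizer G α) w))
    (hne : ∃ w : Ω, w ≠ α) :
    ∃ T : Subgroup G, T.Normal ∧ IsSimpleGroup T ∧ ¬ IsMulCommutative T ∧
      Subgroup.centralizer (T : Set G) = ⊥ := by
  classical
  obtain ⟨hsimple, hnc⟩ := S.isSimpleGroup
  have hinv := S.invariant hco hep hne
  -- `U` is transitive
  let X : Subgroup G :=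
    { carrier := {g | ∀ w, w ∈ pts α U ↔ g • w ∈ pts α U}
      one_mem' := fun w => by rw [one_smul]
      mul_mem' := fun {a b} ha hb w => by rw [mul_smul, ← ha, ← hb]
      inv_mem' := fun {a} ha w => by rw [ha (a⁻¹ • w), smul_inv_smul] }
  have hUX : N ≤ X := S.gen X fun g x hx => by
    obtain ⟨h, hh, hmem⟩ := S.conj_by_stab g
    obtain ⟨y, hy, e⟩ := hmem x hx
    rw [← e]
    have key : ∀ y ∈ U, ∀ w ∈ pts α U, (h * y * h⁻¹) • w ∈ pts α U := by
      intro y hy w hw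
      obtain ⟨z, hz, e'⟩ := hinv h⁻¹ (inv_smul_eq_iff.2 hh.symm) w hw
      rw [mul_smul, mul_smul, ← e', smul_smul y]
      exact hinv h hh _ ⟨y * z, mul_mem hy hz, rfl⟩
    refine fun w => ⟨key y hy w, fun hw => ?_⟩
    have := key y⁻¹ (inv_mem hy) _ hw
    simpa [← mul_smul, mul_assoc] using this
  have htr : ∀ w : Ω, ∃ x ∈ U, x • α = w := fun w => by
    obtain ⟨n, hn, rfl⟩ := S.trans w
    exact (hUX hn α).1 ⟨1, one_mem _, one_smul _ _⟩
  set C := Subgroup.centralizer (U : Set G) with hC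
  have memC : ∀ c, c ∈ C ↔ ∀ y ∈ U, y * c = c * y := fun c => Subgroup.mem_centralizer_iff
  by_cases hAS : U.Normal ∧ C = ⊥
  · exact ⟨U, hAS.1, hsimple, hnc, hAS.2⟩
  exfalso
  -- the centralizer of `U` is transitive
  haveI hCt : IsPretransitive C Ω := by
    refine (isPretransitive_iff_base α).2 fun w => ?_
    by_cases hn : U.Normal
    · haveI := hn
      have hCn : C.Normal := inferInstance
      haveI := CfsgLib.Perm.isPretransitive_of_normal (α := Ω) C fun h => hAS ⟨hn, h⟩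
      exact exists_smul_eq C α w
    · obtain ⟨g, hg⟩ : ∃ g : G, ∀ x ∈ U, ∀ y ∈ U, Commute (g * x * g⁻¹) y := by
        by_contra hcon
        push Not at hcon
        refine hn ⟨fun x hx g => ?_⟩
        rcases S.conj g with h | h
        · exact (h x).1 hx
        · obtain ⟨a, ha, b, hb, hab⟩ := hcon g
          exact absurd (h a ha b hb) hab
      obtain ⟨a, ha, haw⟩ := htr (g⁻¹ • α)
      obtain ⟨b, hb, hbw⟩ := htr (g⁻¹ • w)
      refine ⟨⟨g * (b * a⁻¹) * g⁻¹, (memC _).2 fun y hy =>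
        (hg _ (mul_mem hb (inv_mem ha)) y hy).symm.eq⟩, ?_⟩
      show (g * (b * a⁻¹) * g⁻¹) • α = w
      rw [mul_smul, ← haw, mul_smul, mul_smul, inv_smul_smul, hbw, smul_inv_smul]
  have hfree : ∀ x ∈ U, x • α = α → x = 1 := fun x hx hxa =>
    CfsgLib.Perm.eq_one_of_commute_transitive C (fun c hc => ((memC c).1 hc x hx).symm) hxa
  have hinj : Function.Injective fun x : U => (x : G) • α := fun x y e => by
    refine Subtype.ext (inv_mul_eq_one.1 (hfree _ (mul_mem (inv_mem x.2) y.2) ?_))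
    rw [mul_smul, ← show (x : G) • α = (y : G) • α from e, inv_smul_smul]
  let e : U ≃ Ω := Equiv.ofBijective _ ⟨hinj, fun w => by
    obtain ⟨x, hx, h⟩ := htr w
    exact ⟨⟨x, hx⟩, h⟩⟩
  have he : ∀ x : U, e x = (x : G) • α := fun x => rfl
  letI act : MulAction (stabilizer G α) U :=
    { smul := fun h x => e.symm ((h : G) • e x)
      one_smul := fun x => by
        show e.symm (((1 : stabilizer G α) : G) • e x) = x
        rw [OneMemClass.coe_one, one_smul, e.symm_apply_apply]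
      mul_smul := fun a b x => by
        show e.symm (((a * b : stabilizer G α) : G) • e x) = e.symm ((a : G) • e (e.symm ((b : G) • e x)))
        rw [e.apply_symm_apply, Subgroup.coe_mul, mul_smul] }
  have heq : ∀ (h : stabilizer G α) (x : U), e (h • x) = (h : G) • e x := fun h x => e.apply_symm_apply _
  have hact : ∀ (h : stabilizer G α) (x : U),
      ((h • x : U) : G) • α = ((h : G) * x * (h : G)⁻¹) • α := fun h x => by
    rw [← he, heq, he, smul_smul_conj h.2]
  haveI := hsimple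
  refine false_of_twisted hnc (stabilizer G α) ?_ ?_ ?_ ?_
  · intro h x j
    rcases S.conj (h : G) with hn | hn
    · have hx : ∀ y : U, h • y = ⟨(h : G) * y * (h : G)⁻¹, (hn y).1 y.2⟩ := fun y => hinj (hact h y)
      rw [hx, hx]
      exact Subtype.ext (by simp)
    · refine hinj ?_
      show ((h • (x ^ j) : U) : G) • α = (((h • x) ^ j : U) : G) • α
      rw [hact, SubgroupClass.coe_pow, SubgroupClass.coe_pow, ← conj_pow]
      induction j with
      | zero => rw [pow_zero, pow_zero]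
      | succ j ih =>
        rw [pow_succ', mul_smul, ih, smul_smul, (hn x x.2 _ (pow_mem (h • x).2 j)).eq, mul_smul,
          ← hact, smul_smul, ← pow_succ]
  · intro h x y hxy
    rcases S.conj (h : G) with hn | hn
    · have hx : ∀ z : U, h • z = ⟨(h : G) * z * (h : G)⁻¹, (hn z).1 z.2⟩ := fun z => hinj (hact h z)
      rw [hx, hx]
      refine Subtype.ext ?_
      have h2 : (x : G) * y = y * x := congrArg Subtype.val hxy
      simp only [Subgroup.coe_mul]
      rw [show (h : G) * x * (h : G)⁻¹ * ((h : G) * y * (h : G)⁻¹) = h * (x * y) * (h : G)⁻¹ by group, h2]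
      group
    · refine hinj ?_
      show (((h • x) * (h • y) : U) : G) • α = (((h • y) * (h • x) : U) : G) • α
      have key : ∀ a b : U, (((h • a) * (h • b) : U) : G) • α =
          ((h : G) * (b * a : G) * (h : G)⁻¹) • α := fun a b => by
        rw [Subgroup.coe_mul, mul_smul, hact h b, smul_smul, ← (hn b b.2 _ (h • a).2).eq, mul_smul,
          hact h a, smul_smul]
        group
      have h2 : (y : G) * x = x * y := (congrArg Subtype.val hxy).symm
      rw [key, key, h2]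
  · intro u
    obtain ⟨⟨c, hc⟩, hcu⟩ := exists_smul_eq C α ((u : G)⁻¹ • α)
    have hcu' : c • α = (u : G)⁻¹ • α := hcu
    refine ⟨⟨(u : G) * c, ?_⟩, fun t => hinj ?_⟩
    · rw [mem_stabilizer_iff, mul_smul, hcu', smul_inv_smul]
    · show ((_ • t : U) : G) • α = _
      rw [← he, heq, he]
      show ((u : G) * c) • (t : G) • α = ((u * t * u⁻¹ : U) : G) • α
      rw [mul_smul, smul_smul c, ← (memC c).1 hc t t.2, mul_smul, hcu']
      simp [mul_smul]
  · intro x
    haveI := hep (e x)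
    let f : orbit (stabilizer G α) (e x) →ₑ[(id : stabilizer G α → stabilizer G α)] orbit (stabilizer G α) x :=
      { toFun := fun w => ⟨e.symm (w : Ω), by
          obtain ⟨_, g, rfl⟩ := w
          exact ⟨g, rfl⟩⟩
        map_smul' := fun g w => Subtype.ext (by
          show e.symm ((g : G) • (w : Ω)) = e.symm ((g : G) • e (e.symm (w : Ω)))
          rw [e.apply_symm_apply]) }
    refine IsPreprimitive.of_surjective (f := f) fun y => ?_
    obtain ⟨_, g, rfl⟩ := y
    exact ⟨⟨(g : G) • e x, g, rfl⟩, rfl⟩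

/-- A simple factor of a non-abelian minimal normal subgroup. -/
theorem exists_setup [IsPreprimitive G Ω] [FaithfulSMul G Ω] (α : Ω) (N : Subgroup G) [hN : N.Normal]
    (hN1 : N ≠ ⊥) (hmin : ∀ L : Subgroup G, L.Normal → L ≤ N → L = ⊥ ∨ L = N)
    (hnab : ¬ IsMulCommutative N) : ∃ U, Setup α N U := by
  classical
  haveI : Finite (Subgroup G) := Finite.of_injective _ SetLike.coe_injective
  obtain ⟨U, ⟨hUN, hU1, hUn⟩, hleast⟩ := Set.exists_min_image
    {U : Subgroup G | U ≤ N ∧ U ≠ ⊥ ∧ ∀ n ∈ N, ∀ x ∈ U, n * x * n⁻¹ ∈ U} (fun U => Nat.card U)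
    (Set.toFinite _) ⟨N, le_rfl, hN1, fun n _ x hx => hN.conj_mem x hx n⟩
  have hUmin : ∀ K : Subgroup G, K ≤ U → (∀ n ∈ N, ∀ x ∈ K, n * x * n⁻¹ ∈ K) → K = ⊥ ∨ K = U :=
    fun K hK hKn => or_iff_not_imp_left.2 fun h =>
      Subgroup.eq_of_le_of_card_ge hK (hleast K ⟨hK.trans hUN, h, hKn⟩)
  have hgen : ∀ K : Subgroup G, (∀ g : G, ∀ x ∈ U, g * x * g⁻¹ ∈ K) → N ≤ K := by
    intro K hK
    have hL : Subgroup.normalClosure (U : Set G) = N :=
      (hmin _ Subgroup.normalClosure_normal (Subgroup.normalClosure_le_normal hUN)).resolve_left fun h =>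
        hU1 (le_bot_iff.1 (h ▸ Subgroup.subset_normalClosure))
    rw [← hL, Subgroup.normalClosure, Subgroup.closure_le]
    intro y hy
    obtain ⟨x, hx, hc⟩ := Group.mem_conjugatesOfSet_iff.1 hy
    obtain ⟨g, rfl⟩ := isConj_iff.1 hc
    exact hK g x hx
  have hconj : ∀ g : G, (∀ x : G, x ∈ U ↔ g * x * g⁻¹ ∈ U) ∨
      ∀ x ∈ U, ∀ y ∈ U, Commute (g * x * g⁻¹) y := by
    intro g
    have hcjN : ∀ x ∈ U, g * x * g⁻¹ ∈ N := fun x hx => hN.conj_mem x (hUN hx) g
    have memV : ∀ z, z ∈ U.map (MulAut.conj g).toMonoidHom ↔ g⁻¹ * z * g ∈ U := fun z =>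
      ⟨fun ⟨x, hx, e⟩ => by rw [← e]; simpa [mul_assoc] using hx,
        fun h => ⟨_, h, by simp [mul_assoc]⟩⟩
    have hVn : ∀ n ∈ N, ∀ z ∈ U.map (MulAut.conj g).toMonoidHom,
        n * z * n⁻¹ ∈ U.map (MulAut.conj g).toMonoidHom := fun n hn z hz => by
      rw [memV] at hz ⊢
      rw [show g⁻¹ * (n * z * n⁻¹) * g = g⁻¹ * n * g * (g⁻¹ * z * g) * (g⁻¹ * n * g)⁻¹ by group]
      exact hUn _ (by simpa using hN.conj_mem n hn g⁻¹) _ hz
    rcases hUmin (U ⊓ U.map (MulAut.conj g).toMonoidHom) inf_le_left (fun n hn z hz => by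
        obtain ⟨hz1, hz2⟩ := Subgroup.mem_inf.1 hz
        exact Subgroup.mem_inf.2 ⟨hUn n hn z hz1, hVn n hn z hz2⟩) with h | h
    · refine Or.inr fun x hx y hy => ?_
      have hm : g * x * g⁻¹ * y * (g * x * g⁻¹)⁻¹ * y⁻¹ ∈ U ⊓ U.map (MulAut.conj g).toMonoidHom := by
        refine Subgroup.mem_inf.2 ⟨mul_mem (hUn _ (hcjN x hx) y hy) (inv_mem hy), ?_⟩
        rw [show g * x * g⁻¹ * y * (g * x * g⁻¹)⁻¹ * y⁻¹ =
          g * x * g⁻¹ * (y * (g * x * g⁻¹)⁻¹ * y⁻¹) by group]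
        have hxV : g * x * g⁻¹ ∈ U.map (MulAut.conj g).toMonoidHom := ⟨x, hx, rfl⟩
        exact mul_mem hxV (hVn y (hUN hy) _ (inv_mem hxV))
      rw [h, Subgroup.mem_bot] at hm
      exact mul_inv_eq_iff_eq_mul.1 (mul_inv_eq_one.1 hm)
    · have heq : U = U.map (MulAut.conj g).toMonoidHom :=
        Subgroup.eq_of_le_of_card_ge (inf_eq_left.1 h)
          (Subgroup.card_map_of_injective (MulAut.conj g).injective).le
      refine Or.inl fun x => ⟨fun hx => heq ▸ ⟨x, hx, rfl⟩, fun hx => ?_⟩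
      obtain ⟨w, hw, e⟩ := heq ▸ hx
      simp only [MulEquiv.coe_toMonoidHom, MulAut.conj_apply] at e
      exact (mul_left_cancel (mul_right_cancel e)) ▸ hw
  have hsimp : ∀ K : Subgroup G, K ≤ U → (∀ x ∈ U, ∀ y ∈ K, x * y * x⁻¹ ∈ K) → K = ⊥ ∨ K = U := by
    intro K hK hKU
    refine hUmin K hK fun n hn => ?_
    let M : Subgroup G :=
      { carrier := {n | ∀ y, y ∈ K ↔ n * y * n⁻¹ ∈ K}
        one_mem' := fun y => by simp
        mul_mem' := fun {a b} ha hb y => by
          rw [show a * b * y * (a * b)⁻¹ = a * (b * y * b⁻¹) * a⁻¹ by group, ← ha, ← hb]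
        inv_mem' := fun {a} ha y => by rw [ha (a⁻¹ * y * a⁻¹⁻¹)]; simp [mul_assoc] }
    refine fun y hy => (hgen M (fun g x hx z => ?_) hn y).1 hy
    rcases hconj g with h | h
    · have hgx := (h x).1 hx
      refine ⟨hKU _ hgx z, fun hz => ?_⟩
      simpa [mul_assoc] using hKU _ (inv_mem hgx) _ hz
    · have key : ∀ w ∈ U, g * x * g⁻¹ * w * (g * x * g⁻¹)⁻¹ = w := fun w hw => by
        rw [(h x hx w hw).eq, mul_inv_cancel_right]
      refine ⟨fun hz => (key z (hK hz)).symm ▸ hz, fun hz => ?_⟩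
      have h2 := key _ (hK hz)
      rwa [mul_left_cancel (mul_right_cancel h2)] at hz
  refine ⟨U, hN, ?_, hUN, hUn, hsimp, ?_, hU1, hconj, hgen⟩
  · intro w
    haveI := CfsgLib.Perm.isPretransitive_of_normal (α := Ω) N hN1
    obtain ⟨n, hn⟩ := exists_smul_eq N α w
    exact ⟨n, n.2, hn⟩
  · intro x hx hxc
    let Z : Subgroup G := U ⊓ Subgroup.centralizer (U : Set G)
    rcases hsimp Z inf_le_left (fun a ha y hy => by
        obtain ⟨hy1, hy2⟩ := Subgroup.mem_inf.1 hy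
        rwa [Subgroup.mem_centralizer_iff.1 hy2 a ha, mul_inv_cancel_right]) with h | h
    · exact Subgroup.mem_bot.1 (h ▸ Subgroup.mem_inf.2
        ⟨hx, Subgroup.mem_centralizer_iff.2 fun y hy => (hxc y hy).symm.eq⟩)
    · exfalso
      apply hnab
      have hUU : U ≤ Subgroup.centralizer (U : Set G) := inf_eq_left.1 h
      have hNU : N ≤ Subgroup.centralizer (U : Set G) := hgen _ fun g y hy => by
        rcases hconj g with h' | h'
        · exact hUU ((h' y).1 hy)
        · exact Subgroup.mem_centralizer_iff.2 fun z hz => (h' y hy z hz).symm.eq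
      have hUC : ∀ g : G, ∀ y ∈ U, g * y * g⁻¹ ∈ Subgroup.centralizer (N : Set G) := fun g y hy =>
        (inferInstance : (Subgroup.centralizer (N : Set G)).Normal).conj_mem y
          (Subgroup.mem_centralizer_iff.2 fun n hn => (Subgroup.mem_centralizer_iff.1 (hNU hn) y hy).symm) g
      exact ⟨⟨fun a b => Subtype.ext ((Subgroup.mem_centralizer_iff.1 (hgen _ hUC b.2) a a.2))⟩⟩

/-- Extremely primitive groups are affine or almost simple. -/
theorem affine_or_almostSimple {G : Type u} [Group G] [Finite G] {Ω : Type v} [Fintype Ω] [MulAction G Ω]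
    [FaithfulSMul G Ω] (hΩ : 2 ≤ Fintype.card Ω) (hprim : IsPreprimitive G Ω)
    (hep : ∀ a w : Ω, IsPreprimitive (stabilizer G a) (orbit (stabilizer G a) w)) :
    (∃ N : Subgroup G, N.Normal ∧ N ≠ ⊥ ∧ IsMulCommutative N ∧ ∀ w : Ω, stabilizer N w = ⊥) ∨
    (∃ T : Subgroup G, T.Normal ∧ IsSimpleGroup T ∧ ¬ IsMulCommutative T ∧
      Subgroup.centralizer (T : Set G) = ⊥) := by
  classical
  haveI : Nontrivial Ω := Fintype.one_lt_card_iff_nontrivial.1 hΩ
  obtain ⟨α⟩ : Nonempty Ω := inferInstance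
  obtain ⟨β, hβ⟩ := exists_ne α
  haveI : Finite (Subgroup G) := Finite.of_injective _ SetLike.coe_injective
  have htop : (⊤ : Subgroup G) ≠ ⊥ := by
    intro h
    obtain ⟨g, hg⟩ := exists_smul_eq G α β
    have hg1 : g = 1 := Subgroup.mem_bot.1 (h ▸ Subgroup.mem_top g)
    exact hβ (by rw [← hg, hg1, one_smul])
  obtain ⟨N, ⟨hNn, hN1⟩, hleast⟩ := Set.exists_min_image
    {N : Subgroup G | N.Normal ∧ N ≠ ⊥} (fun N => Nat.card N) (Set.toFinite _) ⟨⊤, inferInstance, htop⟩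
  haveI := hNn
  have hmin : ∀ L : Subgroup G, L.Normal → L ≤ N → L = ⊥ ∨ L = N := fun L hL hLN =>
    or_iff_not_imp_left.2 fun h => Subgroup.eq_of_le_of_card_ge hLN (hleast L ⟨hL, h⟩)
  haveI := CfsgLib.Perm.isPretransitive_of_normal (α := Ω) N hN1
  by_cases hab : IsMulCommutative N
  · exact Or.inl ⟨N, hNn, hN1, hab, fun w => CfsgLib.Perm.stabilizer_eq_bot_of_commutative N hab w⟩
  · obtain ⟨U, hU⟩ := exists_setup α N hN1 hmin hab
    exact Or.inr (hU.almostSimple (IsPreprimitive.isCoatom_stabilizer_of_isPreprimitive G α)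
      (hep α) ⟨β, hβ⟩)

end CfsgLib.ExtremePrim
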